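import Cfsg.Agent.SporRec.TwoSp6.CInvol
import Cfsg.Agent.CharDeep.Twist
import Cfsg.Agent.Characters.Core

/-!
# Split double covers of `Sp₆(2)` and lifts of root elements (helper516, S4816)

* `sq_eq_one` : in a central extension with kernel of exponent two the lift of `x` is an involution if `x`, `y`, `x y`
  are conjugate and `y` is a commutator of elements of `C(x)`;
* `exists_theta` : a double cover of `Sp₆(2)` in which a lift of a transvection is an involution splits, and every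
  irreducible character of `Sp₆(2)` gives a character of the cover over a given linear character of the centre.
-/

set_option autoImplicit false
set_option linter.unusedSectionVars false

namespace Cfsg.Agent.H516.RIM

open Cfsg Subgroup
open Cfsg.Agent.SporRec.TwoSp6.Sp (V S om tr)
open Cfsg.Agent.SporRec.TwoSp6.Lift (Ext Rels)
open Cfsg.Agent.SporRec.TwoSp6.CInvol (NS)

section lift

variable {E : Type*} [Group E] {G : Type*} [Group G]

/-- lifts of conjugate involutions have the same square -/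
theorem sq_eq {π : E →* G} (hs : Function.Surjective π) (hk : π.ker ≤ center E) (h2 : ∀ k ∈ π.ker, k * k = 1)
    {a t : E} {g : G} (hx : π a * π a = 1) (ht : π t = g * π a * g⁻¹) : t * t = a * a := by
  obtain ⟨g', rfl⟩ := hs g
  have haa : a * a ∈ π.ker := by rw [MonoidHom.mem_ker, map_mul, hx]
  have hk1 : t * (g' * a * g'⁻¹)⁻¹ ∈ π.ker := by
    rw [MonoidHom.mem_ker, map_mul, map_inv, map_mul, map_mul, map_inv, ht, mul_inv_cancel]
  obtain ⟨k, hkk, rfl⟩ : ∃ k ∈ π.ker, t = k * (g' * a * g'⁻¹) :=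
    ⟨_, hk1, by rw [inv_mul_cancel_right]⟩
  have hc := mem_center_iff.1 (hk hkk)
  have hca := mem_center_iff.1 (hk haa)
  calc k * (g' * a * g'⁻¹) * (k * (g' * a * g'⁻¹)) = k * ((g' * a * g'⁻¹) * k) * (g' * a * g'⁻¹) := by group
    _ = k * (k * (g' * a * g'⁻¹)) * (g' * a * g'⁻¹) := by rw [hc]
    _ = (k * k) * (g' * (a * a) * g'⁻¹) := by group
    _ = g' * (a * a) * g'⁻¹ := by rw [h2 k hkk, one_mul]
    _ = a * a := by rw [hca, mul_inv_cancel_right]

theorem sq_eq_one {π : E →* G} (hs : Function.Surjective π) (hk : π.ker ≤ center E) (h2 : ∀ k ∈ π.ker, k * k = 1)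
    {x y m n g h : G} (hx : x * x = 1) (hmn : m * n * m⁻¹ * n⁻¹ = y) (hm : m * x = x * m) (hn : n * x = x * n)
    (hg : g * x * g⁻¹ = y) (hh : h * x * h⁻¹ = x * y) {a : E} (ha : π a = x) : a * a = 1 := by
  subst ha
  have haa : a * a ∈ π.ker := by rw [MonoidHom.mem_ker, map_mul, hx]
  obtain ⟨m', rfl⟩ := hs m
  obtain ⟨n', rfl⟩ := hs n
  have key : ∀ m' : E, π m' * π a = π a * π m' → ∃ k ∈ π.ker, m' * a = k * (a * m') := by
    intro m' h
    refine ⟨m' * a * (a * m')⁻¹, ?_, by group⟩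
    rw [MonoidHom.mem_ker, map_mul, map_inv, map_mul, map_mul, h, mul_inv_cancel]
  obtain ⟨k, hk1, e1⟩ := key m' hm
  obtain ⟨l, hl1, e2⟩ := key n' hn
  have ck := mem_center_iff.1 (hk hk1)
  have cl := mem_center_iff.1 (hk hl1)
  -- the commutator commutes with `a`
  have f1 : m' * a * m'⁻¹ = k * a := by rw [e1]; group
  have f2 : n' * a * n'⁻¹ = l * a := by rw [e2]; group
  have f1' : m'⁻¹ * a * m' = k⁻¹ * a := by
    have h3 : m'⁻¹ * (k * a) * m' = a := by rw [← f1]; group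
    rw [← mul_assoc, ck, mul_assoc k, mul_assoc k] at h3
    exact eq_inv_mul_of_mul_eq h3
  have f2' : n'⁻¹ * a * n' = l⁻¹ * a := by
    have h3 : n'⁻¹ * (l * a) * n' = a := by rw [← f2]; group
    rw [← mul_assoc, cl, mul_assoc l, mul_assoc l] at h3
    exact eq_inv_mul_of_mul_eq h3
  set b : E := m' * n' * m'⁻¹ * n'⁻¹ with hb
  have hkl : k * l = l * k := (ck l).symm
  have hbc : b * a * b⁻¹ = a := by
    have s1 : n'⁻¹ * a * n'⁻¹⁻¹ = l⁻¹ * a := by rw [inv_inv]; exact f2'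
    have s2 : m'⁻¹ * a * m'⁻¹⁻¹ = k⁻¹ * a := by rw [inv_inv]; exact f1'
    have cki := mem_center_iff.1 (inv_mem (hk hk1))
    have cli := mem_center_iff.1 (inv_mem (hk hl1))
    calc b * a * b⁻¹ = m' * (n' * (m'⁻¹ * (n'⁻¹ * a * n'⁻¹⁻¹) * m'⁻¹⁻¹) * n'⁻¹) * m'⁻¹ := by rw [hb]; group
      _ = m' * (n' * (m'⁻¹ * (l⁻¹ * a) * m'⁻¹⁻¹) * n'⁻¹) * m'⁻¹ := by rw [s1]
      _ = m' * (n' * (l⁻¹ * (m'⁻¹ * a * m'⁻¹⁻¹)) * n'⁻¹) * m'⁻¹ := by
          rw [← mul_assoc m'⁻¹ l⁻¹ a, cli m'⁻¹]; group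
      _ = m' * (n' * (l⁻¹ * (k⁻¹ * a)) * n'⁻¹) * m'⁻¹ := by rw [s2]
      _ = m' * (l⁻¹ * k⁻¹ * (n' * a * n'⁻¹)) * m'⁻¹ := by
          rw [← mul_assoc l⁻¹ k⁻¹ a, ← mul_assoc n' (l⁻¹ * k⁻¹) a,
            show n' * (l⁻¹ * k⁻¹) = l⁻¹ * k⁻¹ * n' from by rw [← mul_assoc, cli n', mul_assoc, cki n', ← mul_assoc]]
          group
      _ = m' * (l⁻¹ * k⁻¹ * (l * a)) * m'⁻¹ := by rw [f2]
      _ = m' * (k⁻¹ * a) * m'⁻¹ := by
          rw [mul_assoc l⁻¹ k⁻¹, ← cki (l * a), mul_assoc l a, ← mul_assoc l⁻¹ l, inv_mul_cancel, one_mul, cki a]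
      _ = k⁻¹ * (m' * a * m'⁻¹) := by rw [← mul_assoc m' k⁻¹ a, cki m']; group
      _ = a := by rw [f1]; group
  have hab : a * b = b * a := by
    rw [mul_inv_eq_iff_eq_mul] at hbc
    exact hbc.symm
  have hπb : π b = y := by rw [hb, map_mul, map_mul, map_mul, map_inv, map_inv, hmn]
  have h1 : b * b = a * a := sq_eq hs hk h2 hx (g := g) (by rw [hπb, hg])
  have h3 : a * b * (a * b) = a * a := sq_eq hs hk h2 hx (g := h) (by rw [map_mul, hπb, hh])
  rw [← h3, mul_assoc, ← mul_assoc b a b, ← hab, mul_assoc a b b, h1, ← mul_assoc a a, h2 _ haa]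

end lift

/-! ### the cover of `Sp₆(2)` -/

section cover

variable {C : Type*} [Group C] [Finite C] {z : C} {π : C →* S}

/-- the cover splits -/
theorem exists_compl (E : Ext z π) {u : V} (hu : u ≠ 0) {x : C} (hx : π x = tr u) (hxx : x * x = 1) :
    ∃ L : Subgroup C, (zpowers z).IsComplement' L := by
  by_contra hcon
  push Not at hcon
  obtain ⟨a, ha, R⟩ := Cfsg.Agent.SporRec.TwoSp6.Main.Ext.exists_rels E hcon
  have h := (NS.of_rels E ha R).sq u hu x hx
  rw [hxx] at h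
  exact E.z_ne h.symm

/-- a linear character of the cover -/
theorem exists_lin (E : Ext z π) {L : Subgroup C} (hL : (zpowers z).IsComplement' L) {c : ℂˣ} (hc : c * c = 1) :
    ∃ f : C →* ℂˣ, f z = c := by
  classical
  have hi : L.index = 2 := by
    rw [hL.index_eq_card]
    exact Cfsg.Agent.SporRec.TwoSp6.Lift.card_zpowers E.z_ne E.z_sq
  have hz : z ∉ L := by
    intro h
    have h1 : z ∈ zpowers z ⊓ L := ⟨mem_zpowers z, h⟩
    rw [hL.disjoint.eq_bot, mem_bot] at h1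
    exact E.z_ne h1
  refine ⟨{ toFun := fun g => if g ∈ L then 1 else c, map_one' := if_pos (one_mem L), map_mul' := fun a b => ?_ },
    if_neg hz⟩
  have h := Subgroup.mul_mem_iff_of_index_two hi (a := a) (b := b)
  by_cases ha : a ∈ L <;> by_cases hb : b ∈ L <;> simp [ha, hb, h, hc]

/-- **characters of the split cover** -/
theorem exists_theta (E : Ext z π) {u : V} (hu : u ≠ 0) {x : C} (hx : π x = tr u) (hxx : x * x = 1)
    {θ : S → ℂ} (hθ : IsIrrCharacter S θ) {c : ℂˣ} (hc : c * c = 1) :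
    ∃ θ' : C → ℂ, IsIrrCharacter C θ' ∧ θ' z = θ' 1 * c ∧ θ' 1 = θ 1 := by
  obtain ⟨L, hL⟩ := exists_compl E hu hx hxx
  obtain ⟨f, hf⟩ := exists_lin E hL hc
  obtain ⟨n, ρ, hρ, h1⟩ := Cfsg.Agent.Characters.Core.isIrr_comp π E.surj hθ
  refine ⟨fun g => (f g : ℂ) * θ (π g), ⟨n, Cfsg.Agent.CharDeep.Twist.twist f ρ,
    Cfsg.Agent.CharDeep.Twist.twist_irreducible f ρ hρ, ?_⟩, ?_, ?_⟩
  · funext g
    rw [Cfsg.Agent.CharDeep.Twist.twist_character]
    have h2 := congrFun h1 g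
    rw [Function.comp_apply] at h2
    rw [h2]
  · simp only [map_one, Units.val_one, one_mul]
    rw [hf, E.map_z, mul_comm]
  · simp

end cover

end Cfsg.Agent.H516.RIM
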