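import Cfsg.Agent.H516.RIM.Cent
import Cfsg.Agent.H516.RIM.SplitSp
import Cfsg.Agent.H649.RIM.A2
import Cfsg.Agent.H35.RIM.BRElt
import Cfsg.Agent.H507.RIM.Iso
import Cfsg.Agent.H990.TC.Univ
import Cfsg.Agent.ChevalleyStructure.FieldIso
import Cfsg.Agent.S2104
import Cfsg.Agent.S1062

/-!
# S4816, the row `F₄(2)`, `p = 3`: `NBall 3` (helper516)

`Y0` of order three (in the `A₁` of a long root) has the centralizer `⟨Y0⟩ × Sp₆(2)`; the preimage of `Sp₆(2)` in the
double cover splits because the lifts of the long root elements are involutions; `Sp₆(2)` has a character of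
`3`-defect zero (degree 405).
-/

set_option autoImplicit false
set_option linter.unusedSectionVars false

namespace Cfsg.Agent.H516.RIM.F42

open Cfsg Subgroup
open Cfsg.Agent.H665.RIM
open Cfsg.Agent.SporRec.TwoSp6.Sp (V S om tr)
open Cfsg.Agent.SporRec.TwoSp6.Lift (Ext)

universe u

/-! ### the abstract form -/

section abs

variable {G : Type} [Group G] (H : Subgroup G)

theorem exists_two {E : Type} [Group E] {Z : Subgroup E} (hm : Nat.card Z = 2) :
    ∃ z ∈ Z, z ≠ 1 ∧ z * z = 1 ∧ ∀ g ∈ Z, g = 1 ∨ g = z := by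
  obtain ⟨x, y, hxy, huniv⟩ := Nat.card_eq_two_iff.1 hm
  have hall : ∀ w : Z, w = x ∨ w = y := by
    intro w
    have : w ∈ ({x, y} : Set Z) := by rw [huniv]; exact Set.mem_univ _
    simpa using this
  obtain ⟨z, hz1, hz⟩ : ∃ z : Z, z ≠ 1 ∧ ∀ w : Z, w = 1 ∨ w = z := by
    rcases hall 1 with h | h
    · exact ⟨y, fun h' => hxy (h.symm.trans h'.symm), fun w => (hall w).imp (fun e => e.trans h.symm) id⟩
    · exact ⟨x, fun h' => hxy (h'.trans h), fun w => (hall w).symm.imp (fun e => e.trans h.symm) id⟩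
  refine ⟨z, z.2, fun h => hz1 (Subtype.ext h), ?_, fun g hg => ?_⟩
  · rcases hz (z * z) with h | h
    · exact congrArg Subtype.val h
    · exact absurd (mul_eq_left.1 h) hz1
  · exact (hz ⟨g, hg⟩).imp (congrArg Subtype.val) (congrArg Subtype.val)

theorem nb_gen [Finite ↥H] {y : ↥H} {M : Subgroup ↥H} (e : ↥M ≃* S) (hy : orderOf y = 3)
    (hC : centralizer ({y} : Set ↥H) = zpowers y ⊔ M) (hd : zpowers y ⊓ M = ⊥) (h9 : 3 ^ 2 ∣ Nat.card ↥H)
    {t : ↥H} (ht : t ∈ M) {v : V} (hv : v ≠ 0) (htv : e ⟨t, ht⟩ = tr v)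
    (hsq : ∀ (E : Type) [Group E] (π : E →* ↥H), Function.Surjective π → π.ker ≤ center E →
      (∀ k ∈ π.ker, k * k = 1) → ∀ a : E, π a = t → a * a = 1) : NB.{0} 3 2 ↥H := by
  have : Fact (Nat.Prime 3) := ⟨by norm_num⟩
  refine Cfsg.Agent.H35.RIM.nb_of_elt (p := 3) (m := 2) (by norm_num) hy hC hd h9 ?_
  intro E _ _ π hs hk hp hm l hl
  obtain ⟨z, hz, hz1, hzz, hZ⟩ := exists_two hm
  have hkM : ∀ g ∈ π.ker, g ∈ M.comap π := fun g hg => by
    rw [mem_comap, MonoidHom.mem_ker.1 hg]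
    exact one_mem M
  let π' : ↥(M.comap π) →* S :=
    e.toMonoidHom.comp ((π.comp (M.comap π).subtype).codRestrict M fun c => c.2)
  have hπ' : ∀ c : ↥(M.comap π), π' c = e ⟨π c, c.2⟩ := fun _ => rfl
  have X : Ext (⟨z, hkM z hz⟩ : ↥(M.comap π)) π' :=
    { surj := by
        intro s
        obtain ⟨a, ha⟩ := hs (e.symm s)
        refine ⟨⟨a, by rw [mem_comap, ha]; exact (e.symm s).2⟩, ?_⟩
        rw [hπ']
        have h1 : (⟨π a, by rw [ha]; exact (e.symm s).2⟩ : ↥M) = e.symm s := Subtype.ext ha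
        exact (congrArg e h1).trans (e.apply_symm_apply s)
      z_ne := fun h => hz1 (congrArg Subtype.val h)
      z_sq := Subtype.ext hzz
      z_comm := fun g => Subtype.ext (mem_center_iff.1 (hk hz) g).symm
      ker := by
        intro g hg
        rw [hπ'] at hg
        have h1 : (⟨π g, g.2⟩ : ↥M) = 1 := e.injective (hg.trans (map_one e).symm)
        have h2 : (g : E) ∈ π.ker := MonoidHom.mem_ker.2 (congrArg Subtype.val h1)
        exact (hZ g h2).imp (fun h => Subtype.ext h) (fun h => Subtype.ext h)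
      map_z := by
        rw [hπ']
        have h1 : (⟨π z, (hkM z hz)⟩ : ↥M) = 1 := Subtype.ext (MonoidHom.mem_ker.1 hz)
        exact (congrArg e h1).trans (map_one e) }
  obtain ⟨a, ha⟩ := hs t
  have hk2 : ∀ k ∈ π.ker, k * k = 1 := by
    intro k hk'
    rcases hZ k hk' with rfl | rfl
    · exact one_mul 1
    · exact hzz
  have haM : a ∈ M.comap π := by rw [mem_comap, ha]; exact ht
  have hxa : π' ⟨a, haM⟩ = tr v := by
    rw [hπ', ← htv]
    exact congrArg e (Subtype.ext ha)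
  obtain ⟨θ, hθ, hθ3⟩ := Cfsg.Agent.H649.RIM.exists_405
  have hc : l ⟨z, hz⟩ * l ⟨z, hz⟩ = 1 := by
    rw [← map_mul]
    have h1 : (⟨z, hz⟩ : ↥π.ker) * ⟨z, hz⟩ = 1 := Subtype.ext hzz
    rw [h1, map_one]
  have hfin : Finite ↥(M.comap π) := inferInstance
  obtain ⟨θ', h1, h2, h3⟩ := Cfsg.Agent.H516.RIM.exists_theta X hv hxa
    (Subtype.ext (hsq E π hs hk hk2 a ha)) hθ hc
  refine ⟨θ', h1, ?_, ?_⟩
  · intro w hw hw'
    rcases hZ w hw with rfl | rfl
    · have e1 : (⟨1, hw'⟩ : ↥(M.comap π)) = 1 := rfl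
      have e2 : (⟨1, hw⟩ : ↥π.ker) = 1 := rfl
      rw [e1, e2, map_one, Units.val_one, mul_one]
    · exact h2
  · have h4 : charDegree θ' = charDegree θ := by
      apply Cfsg.Agent.Blocks.Basic.charDegree_of_eq
      rw [← Cfsg.Agent.Blocks.Basic.irr_one_eq_charDegree hθ, h3]
    have h5 : Nat.card ↥M = 1451520 := by
      rw [Nat.card_congr e.toEquiv]
      exact Cfsg.Agent.SporRec.TwoSp6.Sp.card_S
    rw [h4, hθ3, h5, show (1451520 : ℕ) = 3 ^ 4 * 17920 from by norm_num,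
      Nat.factorization_mul (by norm_num) (by norm_num), Nat.Prime.factorization_pow (by norm_num),
      Finsupp.add_apply, Finsupp.single_eq_same, Nat.factorization_eq_zero_of_not_dvd (by norm_num)]

/-- from the kernel of order two to all kernels -/
theorem nball_gen [Finite ↥H] (hc : Cfsg.HasCyclicSchurMultiplier ↥H 2) (h : NB.{0} 3 2 ↥H) :
    NBall.{0} 3 ↥H := by
  intro m hm2 _
  by_cases hm : m = 2
  · rw [hm]; exact h
  · intro E _ _ π hπ hker hperf hcard l hl
    exfalso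
    have hP : H51.Mult.PCE π := { surj := hπ, cen := hker, perf := hperf }
    have h1 := H990.TC.card_ker_dvd hc hP
    rw [hcard, show Nat.card (Multiplicative (ZMod 2)) = 2 from Nat.card_zmod 2] at h1
    have h3 := Nat.le_of_dvd (by norm_num) h1
    omega

/-- `sq_eq_one` in a subgroup -/
theorem sq_sub {E : Type} [Group E] {π : E →* ↥H} (hs : Function.Surjective π) (hk : π.ker ≤ center E)
    (h2 : ∀ k ∈ π.ker, k * k = 1) {x y m n g h : ↥H} (hx : x * x = 1) (hm2 : m * m = 1) (hn2 : n * n = 1)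
    (hh2 : h * h = 1) (hmn : m * n * m * n = y) (hm : m * x = x * m) (hn : n * x = x * n)
    (hg : g * x = y * g) (hh : h * x * h = x * y) {a : E} (ha : π a = x) : a * a = 1 := by
  have im : m⁻¹ = m := inv_eq_of_mul_eq_one_right hm2
  have inn : n⁻¹ = n := inv_eq_of_mul_eq_one_right hn2
  have ih : h⁻¹ = h := inv_eq_of_mul_eq_one_right hh2
  refine Cfsg.Agent.H516.RIM.sq_eq_one hs hk h2 (x := x) (y := y) (m := m) (n := n) (g := g) (h := h) hx
    (by rw [im, inn, hmn]) hm hn (by rw [hg, mul_inv_cancel_right]) (by rw [ih, hh]) ha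

end abs

/-! ### `F₄(2)` -/

section f42

open Cfsg.Lie Cfsg.Agent.ChevalleyStructure.TwF4.Bits Cfsg.Agent.ChevalleyStructure.TwF4.Tables
  Cfsg.Agent.ChevalleyStructure.TwF4.Rel
open Cfsg.Agent.FourTwo.RankInv
open Cfsg.Agent.FourTwo.Base hiding bar bar_lt
open Cfsg.Agent.LThreeFfour.Mat Cfsg.Agent.LThreeFfour.Rho Cfsg.Agent.LThreeFfour.Levi
open Cfsg.Agent.LThreeFfour.Long

theorem w_mn : x 0 * x 42 * x 0 * x 42 = x 15 := by
  have h := wd_eq [0, 42, 0, 42] [15] (by decide +kernel)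
  rw [show [0, 42, 0, 42] = [0] ++ [42] ++ [0] ++ [42] from rfl, wd_append, wd_append, wd_append, wd_one, wd_one,
    wd_one] at h
  exact h

theorem w_m : x 0 * x 41 = x 41 * x 0 := by
  have h := wd_eq [0, 41] [41, 0] (by decide +kernel)
  rw [show [0, 41] = [0] ++ [41] from rfl, show [41, 0] = [41] ++ [0] from rfl, wd_append, wd_append, wd_one,
    wd_one] at h
  exact h

theorem w_n : x 42 * x 41 = x 41 * x 42 := by
  have h := wd_eq [42, 41] [41, 42] (by decide +kernel)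
  rw [show [42, 41] = [42] ++ [41] from rfl, show [41, 42] = [41] ++ [42] from rfl, wd_append, wd_append, wd_one,
    wd_one] at h
  exact h

theorem w_g : wd [1, 46, 1] * x 41 = x 15 * wd [1, 46, 1] := by
  have h := wd_eq [1, 46, 1, 41] [15, 1, 46, 1] (by decide +kernel)
  rw [show [1, 46, 1, 41] = [1, 46, 1] ++ [41] from rfl, show [15, 1, 46, 1] = [15] ++ [1, 46, 1] from rfl, wd_append,
    wd_append, wd_one, wd_one] at h
  exact h

theorem w_h : x 1 * x 41 * x 1 = x 41 * x 15 := by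
  have h := wd_eq [1, 41, 1] [41, 15] (by decide +kernel)
  rw [show [1, 41, 1] = [1] ++ [41] ++ [1] from rfl, show [41, 15] = [41] ++ [15] from rfl, wd_append, wd_append,
    wd_append, wd_one, wd_one, wd_one] at h
  exact h

theorem hsq (E : Type) [Group E] (π : E →* LL) (hs : Function.Surjective π) (hk : π.ker ≤ center E)
    (h2 : ∀ k ∈ π.ker, k * k = 1) (a : E) (ha : π a = x 41) : a * a = 1 :=
  sq_sub (chevF4.group (ZMod 2)) hs hk h2 (x_mul_self 41) (x_mul_self 0) (x_mul_self 42)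
    (x_mul_self 1) w_mn w_m w_n w_g w_h ha

theorem mem41 : x 41 ∈ M0 := x_mem_M0 (by decide)

theorem eqv41 : eqv ⟨x 41, mem41⟩ = tr v0 := by
  apply Subtype.ext
  have h1 : r0 (x 41) = M6 (wordM [41]) := by
    rw [← wd_one]
    exact r0_wd (by decide)
  have h2 : ((tr v0 : S) : Matrix I6 I6 (ZMod 2)) = sympTransvection 3 v0 1 := rfl
  rw [eqv_apply, rhoM_coe, h1, transv_tab, h2]

theorem v0_ne : (v0 : V) ≠ 0 := by
  intro h
  have h1 := congrFun h (Sum.inl 0)
  rw [v0, Pi.single_eq_same, Pi.zero_apply] at h1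
  exact one_ne_zero h1

theorem card_LL : Nat.card LL = 3311126603366400 := by
  have h := Cfsg.Agent.S1062.result (F := ZMod 2) (q := 2) (ZMod.card 2)
  rw [h]
  norm_num

theorem nb_LL : NB.{0} 3 2 LL := by
  have hf : Finite LL := Nat.finite_of_card_ne_zero (by rw [card_LL]; norm_num)
  exact nb_gen (chevF4.group (ZMod 2)) eqv Cent.orderOf_Y0 Cent.cent_Y0 Cent.disj
    (by rw [card_LL]; norm_num) mem41 v0_ne eqv41 hsq

theorem nball_LL : NBall.{0} 3 LL := by
  have hf : Finite LL := Nat.finite_of_card_ne_zero (by rw [card_LL]; norm_num)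
  exact nball_gen (chevF4.group (ZMod 2)) (Cfsg.Agent.S2104.result (F := ZMod 2) (ZMod.card 2)) nb_LL

end f42

theorem exists_f {K : Type*} [Field K] [Fintype K] (hK : Fintype.card K = 2) :
    Nonempty (↥(Cfsg.Lie.chevF4.group (ZMod 2)) ≃* ↥(Cfsg.Lie.chevF4.group K)) :=
  ⟨Cfsg.Agent.ChevalleyStructure.FieldIso.groupEquiv Cfsg.Lie.chevF4 (ZMod.ringEquivOfPrime K Nat.prime_two hK)⟩

theorem nball_tr {G : Type} [Group G] (H : Subgroup G) {A B : Type*} [Group A] [Group B] (f : ↥H ≃* B)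
    (e : A ≃* B) (h : NBall.{0} 3 ↥H) : NBall 3 A :=
  Cfsg.Agent.H507.RIM.nball_congr (f.trans e.symm) h

/-- **The row `F₄(2)`, `p = 3`.** -/
theorem nball_f42 {K : Type*} [Field K] [Fintype K] (hK : Fintype.card K = 2) {S' : Type u} [Group S']
    (h : Nonempty (S' ≃* ↥(Cfsg.Lie.chevF4.group K))) : NBall.{u} 3 S' := by
  obtain ⟨e⟩ := h
  obtain ⟨f⟩ := exists_f hK
  exact nball_tr (Cfsg.Lie.chevF4.group (ZMod 2)) f e nball_LL

end Cfsg.Agent.H516.RIM.F42
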