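import Cfsg.Agent.LThreeFfour.Main

/-!
# The centralizer of a long root element of order three in `F₄(2)` (helper516, S4816)

`cent_Y0` : `C(Y0) = ⟨Y0⟩ ⊔ M0`, `disj` : `⟨Y0⟩ ⊓ M0 = ⊥`, where `Y0 = x 47 * x 0` has order three and
`M0 = C(x 47) ∩ C(x 0) ≅ Sp₆(2)`.
-/

set_option autoImplicit false
set_option linter.unusedSectionVars false

namespace Cfsg.Agent.H516.RIM.Cent

open Cfsg Cfsg.Lie Cfsg.Agent.ChevalleyStructure.TwF4.Bits Cfsg.Agent.ChevalleyStructure.TwF4.Tables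
  Cfsg.Agent.ChevalleyStructure.TwF4.Rel
open Cfsg.Agent.FourTwo.RankInv
open Cfsg.Agent.FourTwo.Base hiding bar bar_lt x_mul_self
open Cfsg.Agent.FourTwo.ClassSep Cfsg.Agent.FourTwo.Par Cfsg.Agent.FourTwo.Cent Cfsg.Agent.FourTwo.BN
open Cfsg.Agent.LThreeFfour.Mat Cfsg.Agent.LThreeFfour.Rho Cfsg.Agent.LThreeFfour.Levi Cfsg.Agent.LThreeFfour.Types
open Cfsg.Agent.LThreeFfour.Long
open Matrix

/-! ### the matrices -/

/-- the block diagonal matrices commuting with the four transvections -/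
def FF (a b c d e f : ZMod 2) : Matrix I6 I6 (ZMod 2) := Matrix.of fun i j =>
  match i, j with
  | Sum.inl 0, Sum.inl 0 => a
  | Sum.inl 0, Sum.inr 0 => b
  | Sum.inr 0, Sum.inl 0 => c
  | Sum.inr 0, Sum.inr 0 => d
  | Sum.inl 1, Sum.inl 1 => e
  | Sum.inr 1, Sum.inr 1 => e
  | Sum.inl 2, Sum.inl 2 => f
  | Sum.inr 2, Sum.inr 2 => f
  | _, _ => 0

theorem dec_FF : ∀ a b c d e f : ZMod 2, FF a b c d e f * A1 = A1 * FF a b c d e f →
    FF a b c d e f * J (Fin 3) (ZMod 2) * (FF a b c d e f)ᵀ = J (Fin 3) (ZMod 2) →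
    FF a b c d e f = 1 ∨ FF a b c d e f = A1 ∨ FF a b c d e f = A1 * A1 := by decide +kernel

theorem T30 : M6 (wordM [30]) = 1 + Matrix.single (Sum.inl 1) (Sum.inr 1) (1 : ZMod 2) := by decide +kernel
theorem T17 : M6 (wordM [17]) = 1 + Matrix.single (Sum.inr 1) (Sum.inl 1) (1 : ZMod 2) := by decide +kernel
theorem T25 : ∃ i j : I6, (i = Sum.inl 2 ∧ j = Sum.inr 2 ∨ i = Sum.inr 2 ∧ j = Sum.inl 2) ∧
    M6 (wordM [25]) = 1 + Matrix.single i j (1 : ZMod 2) ∧ M6 (wordM [22]) = 1 + Matrix.single j i (1 : ZMod 2) := by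
  decide +kernel

theorem commute_single {A : Matrix I6 I6 (ZMod 2)} {i j : I6} {M : ℕ} (hM : M6 M = 1 + Matrix.single i j (1 : ZMod 2))
    (h : A * M6 M = M6 M * A) : Commute (Matrix.single i j (1 : ZMod 2)) A := by
  rw [hM, Matrix.mul_add, Matrix.add_mul, Matrix.mul_one, Matrix.one_mul] at h
  exact (add_left_cancel h).symm

theorem mat_key {A : Matrix I6 I6 (ZMod 2)} (h30 : A * M6 (wordM [30]) = M6 (wordM [30]) * A)
    (h17 : A * M6 (wordM [17]) = M6 (wordM [17]) * A) (h25 : A * M6 (wordM [25]) = M6 (wordM [25]) * A)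
    (h22 : A * M6 (wordM [22]) = M6 (wordM [22]) * A) (h1 : A * A1 = A1 * A)
    (hJ : A * J (Fin 3) (ZMod 2) * Aᵀ = J (Fin 3) (ZMod 2)) : A = 1 ∨ A = A1 ∨ A = A1 * A1 := by
  have c1 := commute_single T30 h30
  have c2 := commute_single T17 h17
  have c34 : Commute (Matrix.single (Sum.inl 2) (Sum.inr 2) (1 : ZMod 2)) A ∧
      Commute (Matrix.single (Sum.inr 2) (Sum.inl 2) (1 : ZMod 2)) A := by
    obtain ⟨i, j, hij, t1, t2⟩ := T25
    have c3 := commute_single t1 h25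
    have c4 := commute_single t2 h22
    rcases hij with ⟨rfl, rfl⟩ | ⟨rfl, rfl⟩
    · exact ⟨c3, c4⟩
    · exact ⟨c4, c3⟩
  obtain ⟨c3, c4⟩ := c34
  have hF : A = FF (A (Sum.inl 0) (Sum.inl 0)) (A (Sum.inl 0) (Sum.inr 0)) (A (Sum.inr 0) (Sum.inl 0))
      (A (Sum.inr 0) (Sum.inr 0)) (A (Sum.inl 1) (Sum.inl 1)) (A (Sum.inl 2) (Sum.inl 2)) := by
    have r1 : ∀ k, k ≠ Sum.inr 1 → A (Sum.inr 1) k = 0 := fun k hk => Matrix.row_eq_zero_of_commute_single c1 hk
    have r2 : ∀ k, k ≠ Sum.inl 1 → A (Sum.inl 1) k = 0 := fun k hk => Matrix.row_eq_zero_of_commute_single c2 hk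
    have r3 : ∀ k, k ≠ Sum.inr 2 → A (Sum.inr 2) k = 0 := fun k hk => Matrix.row_eq_zero_of_commute_single c3 hk
    have r4 : ∀ k, k ≠ Sum.inl 2 → A (Sum.inl 2) k = 0 := fun k hk => Matrix.row_eq_zero_of_commute_single c4 hk
    have s1 : ∀ k, k ≠ Sum.inl 1 → A k (Sum.inl 1) = 0 := fun k hk => Matrix.col_eq_zero_of_commute_single c1 hk
    have s2 : ∀ k, k ≠ Sum.inr 1 → A k (Sum.inr 1) = 0 := fun k hk => Matrix.col_eq_zero_of_commute_single c2 hk
    have s3 : ∀ k, k ≠ Sum.inl 2 → A k (Sum.inl 2) = 0 := fun k hk => Matrix.col_eq_zero_of_commute_single c3 hk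
    have s4 : ∀ k, k ≠ Sum.inr 2 → A k (Sum.inr 2) = 0 := fun k hk => Matrix.col_eq_zero_of_commute_single c4 hk
    have d1 : A (Sum.inl 1) (Sum.inl 1) = A (Sum.inr 1) (Sum.inr 1) := Matrix.diag_eq_of_commute_single c1
    have d2 : A (Sum.inl 2) (Sum.inl 2) = A (Sum.inr 2) (Sum.inr 2) := Matrix.diag_eq_of_commute_single c3
    ext i j
    rcases i with i | i <;> rcases j with j | j <;> fin_cases i <;> fin_cases j <;>
      first
      | rfl
      | exact d1.symm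
      | exact d2.symm
      | exact r1 _ (by decide)
      | exact r2 _ (by decide)
      | exact r3 _ (by decide)
      | exact r4 _ (by decide)
      | exact s1 _ (by decide)
      | exact s2 _ (by decide)
      | exact s3 _ (by decide)
      | exact s4 _ (by decide)
  rw [hF] at h1 hJ ⊢
  exact dec_FF _ _ _ _ _ _ h1 hJ

/-! ### the reflection -/

/-- the reflection swapping `47` and `41` -/
def ww : LL := nw [3, 2, 1, 2, 3]

theorem ww_conj {r s : ℕ} (hr : r < 48) (h : act [3, 2, 1, 2, 3] r = s) : ww * x r * ww⁻¹ = x s := by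
  rw [← h]
  exact nw_conj (w := [3, 2, 1, 2, 3]) (by decide) hr

theorem comm_conj {G : Type} [Group G] (H : Subgroup G) {w c a b d : ↥H} (hd : d = w * c * w⁻¹) (h : c * a = a * c)
    (hb : w * a * w⁻¹ = b) : d * b = b * d := by
  rw [← hb, hd]
  calc w * c * w⁻¹ * (w * a * w⁻¹) = w * (c * a) * w⁻¹ := by group
    _ = w * (a * c) * w⁻¹ := by rw [h]
    _ = _ := by group

/-- abstract form of the last two steps -/
theorem center_of_simple {G : Type} [Group G] (M : Subgroup G) (hs : IsSimpleGroup ↥M) (hc : ¬ IsMulCommutative ↥M)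
    {c : G} (hcM : c ∈ M) (h : ∀ m ∈ M, c * m = m * c) : c = 1 := by
  have hn : Subgroup.center ↥M = ⊥ := by
    rcases (inferInstance : (Subgroup.center ↥M).Normal).eq_bot_or_eq_top with h1 | h1
    · exact h1
    · exfalso
      apply hc
      refine ⟨⟨fun a b => ?_⟩⟩
      have : b ∈ Subgroup.center ↥M := by rw [h1]; exact Subgroup.mem_top _
      exact (Subgroup.mem_center_iff.1 this a)
  have h2 : (⟨c, hcM⟩ : ↥M) ∈ Subgroup.center ↥M := by
    rw [Subgroup.mem_center_iff]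
    intro g
    exact Subtype.ext (h g g.2).symm
  rw [hn, Subgroup.mem_bot] at h2
  exact congrArg Subtype.val h2

theorem disj_of {G : Type} [Group G] {M : Subgroup G} {y : G} (hM : M ≤ Subgroup.centralizer ({y} : Set G))
    (h1 : ∀ c ∈ M, (∀ m ∈ M, c * m = m * c) → c = 1) : Subgroup.zpowers y ⊓ M = ⊥ := by
  rw [eq_bot_iff]
  rintro g ⟨⟨k, rfl⟩, hg⟩
  rw [Subgroup.mem_bot]
  apply h1 _ hg
  intro m hm
  have h1 := Subgroup.mem_centralizer_singleton_iff.1 (hM hm)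
  have h2 : Commute y m := h1.symm
  exact (h2.zpow_left k).eq

theorem cent_of {G : Type} [Group G] {M : Subgroup G} {y : G} (hM : M ≤ Subgroup.centralizer ({y} : Set G))
    (hn : ∀ h ∈ Subgroup.centralizer ({y} : Set G), ∀ m ∈ M, h * m * h⁻¹ ∈ M)
    (hin : ∀ σ : MulAut ↥M, ∃ g : ↥M, ∀ m : ↥M, σ m = g * m * g⁻¹)
    (hd : ∀ c : G, (∀ m ∈ M, c * m = m * c) → c * y = y * c → c = 1 ∨ c = y ∨ c = y * y) :
    Subgroup.centralizer ({y} : Set G) = Subgroup.zpowers y ⊔ M := by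
  apply le_antisymm
  · intro g hg
    have hn' : ∀ m ∈ M, g⁻¹ * m * g ∈ M := by
      intro m hm
      have := hn g⁻¹ (inv_mem hg) m hm
      rwa [inv_inv] at this
    let σ : MulAut ↥M :=
      { toFun := fun m => ⟨g * m * g⁻¹, hn g hg m m.2⟩
        invFun := fun m => ⟨g⁻¹ * m * g, hn' m m.2⟩
        left_inv := fun m => Subtype.ext (by
          change g⁻¹ * (g * m * g⁻¹) * g = m
          group)
        right_inv := fun m => Subtype.ext (by
          change g * (g⁻¹ * m * g) * g⁻¹ = m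
          group)
        map_mul' := fun a b => Subtype.ext (by
          change g * (a * b) * g⁻¹ = g * a * g⁻¹ * (g * b * g⁻¹)
          group) }
    obtain ⟨n, hσ⟩ := hin σ
    have h1 : ∀ m ∈ M, (((n : G))⁻¹ * g) * m = m * ((n : G)⁻¹ * g) := by
      intro m hm
      have h2 : g * m * g⁻¹ = (n : G) * m * (n : G)⁻¹ := congrArg Subtype.val (hσ ⟨m, hm⟩)
      have h3 : g * m = (n : G) * m * (n : G)⁻¹ * g := by rw [← h2]; group
      rw [mul_assoc, h3]
      group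
    have h2 : ((n : G)⁻¹ * g) * y = y * ((n : G)⁻¹ * g) :=
      Subgroup.mem_centralizer_singleton_iff.1 (mul_mem (inv_mem (hM n.2)) hg)
    have h3 : (n : G)⁻¹ * g ∈ Subgroup.zpowers y := by
      rcases hd _ h1 h2 with h | h | h <;> rw [h]
      · exact one_mem _
      · exact Subgroup.mem_zpowers _
      · exact mul_mem (Subgroup.mem_zpowers _) (Subgroup.mem_zpowers _)
    have h4 : g = (n : G) * ((n : G)⁻¹ * g) := by group
    rw [h4]
    exact mul_mem ((le_sup_right : M ≤ Subgroup.zpowers y ⊔ M) n.2)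
      ((le_sup_left : Subgroup.zpowers y ≤ Subgroup.zpowers y ⊔ M) h3)
  · apply sup_le
    · rw [Subgroup.zpowers_le]
      exact Subgroup.mem_centralizer_singleton_iff.2 rfl
    · exact hM

/-- the elements centralising `M0` and `Y0` -/
theorem double {c : LL} (hM : ∀ m ∈ M0, c * m = m * c) (hY : c * Y0 = Y0 * c) : c = 1 ∨ c = Y0 ∨ c = Y0 * Y0 := by
  obtain ⟨d, hd⟩ : ∃ d : LL, d = ww * c * ww⁻¹ := ⟨_, rfl⟩
  have g47 : ww * x 41 * ww⁻¹ = x 47 := ww_conj (r := 41) (s := 47) (by norm_num) (by decide +kernel)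
  have g0 : ww * x 6 * ww⁻¹ = x 0 := ww_conj (r := 6) (s := 0) (by norm_num) (by decide +kernel)
  have g30 : ww * x 30 * ww⁻¹ = x 30 := ww_conj (r := 30) (s := 30) (by norm_num) (by decide +kernel)
  have g17 : ww * x 17 * ww⁻¹ = x 17 := ww_conj (r := 17) (s := 17) (by norm_num) (by decide +kernel)
  have g25 : ww * x 25 * ww⁻¹ = x 25 := ww_conj (r := 25) (s := 25) (by norm_num) (by decide +kernel)
  have g22 : ww * x 22 * ww⁻¹ = x 22 := ww_conj (r := 22) (s := 22) (by norm_num) (by decide +kernel)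
  have e47 : c * x 41 = x 41 * c := hM _ (x_mem_M0 (r := 41) (by decide))
  have e0 : c * x 6 = x 6 * c := hM _ (x_mem_M0 (r := 6) (by decide))
  have e30 : c * x 30 = x 30 * c := hM _ (x_mem_M0 (r := 30) (by decide))
  have e17 : c * x 17 = x 17 * c := hM _ (x_mem_M0 (r := 17) (by decide))
  have e25 : c * x 25 = x 25 * c := hM _ (x_mem_M0 (r := 25) (by decide))
  have e22 : c * x 22 = x 22 * c := hM _ (x_mem_M0 (r := 22) (by decide))
  have hd47 : d * x 47 = x 47 * d := comm_conj _ hd e47 g47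
  have hd0 : d * x 0 = x 0 * d := comm_conj _ hd e0 g0
  have h30 : d * x 30 = x 30 * d := comm_conj _ hd e30 g30
  have h17 : d * x 17 = x 17 * d := comm_conj _ hd e17 g17
  have h25 : d * x 25 = x 25 * d := comm_conj _ hd e25 g25
  have h22 : d * x 22 = x 22 * d := comm_conj _ hd e22 g22
  have hdY : d * Y1 = Y1 * d := comm_conj _ hd hY Y1_conj
  have hdM : d ∈ M0 := mem_M0.2 ⟨hd47, hd0⟩
  have hr : ∀ {r : ℕ}, m0P r = true → d * x r = x r * d → r0 d * M6 (wordM [r]) = M6 (wordM [r]) * r0 d := by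
    intro r hp h
    have h1 : r0 (x r) = M6 (wordM [r]) := by
      rw [← wd_one]
      exact r0_wd (by
        have := m0_lt hp
        simpa using this)
    rw [← h1, ← r0_mul _ (C47_le (M0_le (x_mem_M0 hp))).1.1, h, r0_mul _ (C47_le (M0_le hdM)).1.1]
  have hA1 : r0 d * A1 = A1 * r0 d := by
    rw [← r0_Y1, ← r0_mul _ (C47_le (M0_le Y1_mem)).1.1, hdY, r0_mul _ (C47_le (M0_le hdM)).1.1]
  have hJ : r0 d * J (Fin 3) (ZMod 2) * (r0 d)ᵀ = J (Fin 3) (ZMod 2) :=
    SymplecticGroup.mem_iff.1 (C47_le (M0_le hdM)).2.1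
  have key := mat_key (hr (by decide) h30) (hr (by decide) h17) (hr (by decide) h25) (hr (by decide) h22) hA1 hJ
  have inj : ∀ {g : LL}, g ∈ M0 → r0 d = r0 g → d = g := by
    intro g hg h
    have h1 : (⟨d, hdM⟩ : ↥M0) = ⟨g, hg⟩ := rhoM_injective (Subtype.ext h)
    exact congrArg Subtype.val h1
  have back : ∀ {g : LL}, ww * c * ww⁻¹ = ww * g * ww⁻¹ → c = g := by
    intro g h
    exact mul_left_cancel (mul_right_cancel h)
  rcases key with h | h | h
  · left
    apply back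
    rw [← hd, inj (one_mem _) (h.trans r0_one.symm)]
    group
  · right; left
    apply back
    rw [← hd, inj Y1_mem (h.trans r0_Y1.symm)]
    exact Y1_conj.symm
  · right; right
    apply back
    rw [← hd, inj (mul_mem Y1_mem Y1_mem) (h.trans (by rw [r0_mul _ (C47_le (M0_le Y1_mem)).1.1, r0_Y1]))]
    rw [← Y1_conj]
    change ww * Y0 * ww⁻¹ * (ww * Y0 * ww⁻¹) = _
    group

theorem Y0_cube : Y0 ^ 3 = 1 := by
  have h1 : Y1 ^ 3 = 1 := Y1_cube
  rw [← Y1_conj] at h1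
  have h2 : nw [3, 2, 1, 2, 3] * Y0 ^ 3 * (nw [3, 2, 1, 2, 3])⁻¹ = 1 := by rw [← h1, conj_pow]
  have h3 := mul_inv_eq_iff_eq_mul.1 h2
  rw [one_mul] at h3
  exact mul_eq_left.1 h3

theorem Y1_ne : Y1 ≠ 1 := by
  intro h
  have h1 : A1 = 1 := by rw [← r0_Y1, h, r0_one]
  exact A1_ne h1

theorem Y0_ne : Y0 ≠ 1 := by
  intro h
  apply Y1_ne
  rw [← Y1_conj, h]
  group

theorem orderOf_Y0 : orderOf Y0 = 3 := by
  have : Fact (Nat.Prime 3) := ⟨by norm_num⟩
  exact orderOf_eq_prime Y0_cube Y0_ne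

theorem nc_sub {X : Type} [Group X] (M : Subgroup X) (e : ↥M ≃* PSp 3 (ZMod 2)) : ¬ IsMulCommutative ↥M :=
  Cfsg.Agent.LThreeFfour.Gen.not_comm_psp card_two e

theorem center_M0 {c : LL} (hc : c ∈ M0) (h : ∀ m ∈ M0, c * m = m * c) : c = 1 :=
  center_of_simple M0 simple_M0 (nc_sub M0 eqv') hc h

theorem disj : Subgroup.zpowers Y0 ⊓ M0 = ⊥ := disj_of M0_le_cent fun _ hc h => center_M0 hc h

/-- **the centralizer of `Y0`** -/
theorem cent_Y0 : Subgroup.centralizer ({Y0} : Set LL) = Subgroup.zpowers Y0 ⊔ M0 :=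
  cent_of M0_le_cent (fun _ hh _ hm => M0_conj hh hm)
    (fun σ => Cfsg.Agent.LThreeFfour.Gen.inner_of_equiv_sub card_two M0 eqv' σ) (fun _ h1 h2 => double h1 h2)

end Cfsg.Agent.H516.RIM.Cent
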